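import Cfsg.Agent.Helper19.Fi24P.Tab

set_option autoImplicit false
set_option linter.all false
set_option maxRecDepth 1000000
set_option maxHeartbeats 0

namespace Cfsg.Agent.Helper19.Fi24P

theorem okR0 : OKR (0 * 1000) 1000 := by decide +kernel
theorem okR1 : OKR (1 * 1000) 1000 := by decide +kernel
theorem okR2 : OKR (2 * 1000) 1000 := by decide +kernel
theorem okR3 : OKR (3 * 1000) 1000 := by decide +kernel
theorem okR4 : OKR (4 * 1000) 1000 := by decide +kernel
theorem okR5 : OKR (5 * 1000) 1000 := by decide +kernel
theorem okR6 : OKR (6 * 1000) 1000 := by decide +kernel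
theorem okR7 : OKR (7 * 1000) 1000 := by decide +kernel

end Cfsg.Agent.Helper19.Fi24P
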