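import Cfsg.Agent.Helper19.Fi24P.Tab

set_option autoImplicit false
set_option linter.all false
set_option maxRecDepth 1000000
set_option maxHeartbeats 0

namespace Cfsg.Agent.Helper19.Fi24P

theorem okR80 : OKR (80 * 1000) 1000 := by decide +kernel
theorem okR81 : OKR (81 * 1000) 1000 := by decide +kernel
theorem okR82 : OKR (82 * 1000) 1000 := by decide +kernel
theorem okR83 : OKR (83 * 1000) 1000 := by decide +kernel
theorem okR84 : OKR (84 * 1000) 1000 := by decide +kernel
theorem okR85 : OKR (85 * 1000) 1000 := by decide +kernel
theorem okR86 : OKR (86 * 1000) 1000 := by decide +kernel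
theorem okR87 : OKR (87 * 1000) 1000 := by decide +kernel

end Cfsg.Agent.Helper19.Fi24P
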