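import Cfsg.Agent.Helper19.Fi24P.Tab

set_option autoImplicit false
set_option linter.all false
set_option maxRecDepth 1000000
set_option maxHeartbeats 0

namespace Cfsg.Agent.Helper19.Fi24P

theorem okR112 : OKR (112 * 1000) 1000 := by decide +kernel
theorem okR113 : OKR (113 * 1000) 1000 := by decide +kernel
theorem okR114 : OKR (114 * 1000) 1000 := by decide +kernel
theorem okR115 : OKR (115 * 1000) 1000 := by decide +kernel
theorem okR116 : OKR (116 * 1000) 1000 := by decide +kernel
theorem okR117 : OKR (117 * 1000) 1000 := by decide +kernel
theorem okR118 : OKR (118 * 1000) 1000 := by decide +kernel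
theorem okR119 : OKR (119 * 1000) 1000 := by decide +kernel

end Cfsg.Agent.Helper19.Fi24P
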