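import Cfsg.Agent.Helper19.Fi24P.Tab

set_option autoImplicit false
set_option linter.all false
set_option maxRecDepth 1000000
set_option maxHeartbeats 0

namespace Cfsg.Agent.Helper19.Fi24P

theorem okR144 : OKR (144 * 1000) 1000 := by decide +kernel
theorem okR145 : OKR (145 * 1000) 1000 := by decide +kernel
theorem okR146 : OKR (146 * 1000) 1000 := by decide +kernel
theorem okR147 : OKR (147 * 1000) 1000 := by decide +kernel
theorem okR148 : OKR (148 * 1000) 1000 := by decide +kernel
theorem okR149 : OKR (149 * 1000) 1000 := by decide +kernel
theorem okR150 : OKR (150 * 1000) 1000 := by decide +kernel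
theorem okR151 : OKR (151 * 1000) 1000 := by decide +kernel

end Cfsg.Agent.Helper19.Fi24P
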