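import Cfsg.Agent.Helper19.Fi24P.Tab

set_option autoImplicit false
set_option linter.all false
set_option maxRecDepth 1000000
set_option maxHeartbeats 0

namespace Cfsg.Agent.Helper19.Fi24P

theorem okR152 : OKR (152 * 1000) 1000 := by decide +kernel
theorem okR153 : OKR (153 * 1000) 1000 := by decide +kernel
theorem okR154 : OKR (154 * 1000) 1000 := by decide +kernel
theorem okR155 : OKR (155 * 1000) 1000 := by decide +kernel
theorem okR156 : OKR (156 * 1000) 1000 := by decide +kernel
theorem okR157 : OKR (157 * 1000) 1000 := by decide +kernel
theorem okR158 : OKR (158 * 1000) 1000 := by decide +kernel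
theorem okR159 : OKR (159 * 1000) 1000 := by decide +kernel

end Cfsg.Agent.Helper19.Fi24P
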