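import Cfsg.Agent.Helper19.Fi24P.Tab

set_option autoImplicit false
set_option linter.all false
set_option maxRecDepth 1000000
set_option maxHeartbeats 0

namespace Cfsg.Agent.Helper19.Fi24P

theorem okR16 : OKR (16 * 1000) 1000 := by decide +kernel
theorem okR17 : OKR (17 * 1000) 1000 := by decide +kernel
theorem okR18 : OKR (18 * 1000) 1000 := by decide +kernel
theorem okR19 : OKR (19 * 1000) 1000 := by decide +kernel
theorem okR20 : OKR (20 * 1000) 1000 := by decide +kernel
theorem okR21 : OKR (21 * 1000) 1000 := by decide +kernel
theorem okR22 : OKR (22 * 1000) 1000 := by decide +kernel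
theorem okR23 : OKR (23 * 1000) 1000 := by decide +kernel

end Cfsg.Agent.Helper19.Fi24P
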