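import Cfsg.Agent.Helper19.Fi24P.Tab

set_option autoImplicit false
set_option linter.all false
set_option maxRecDepth 1000000
set_option maxHeartbeats 0

namespace Cfsg.Agent.Helper19.Fi24P

theorem okR176 : OKR (176 * 1000) 1000 := by decide +kernel
theorem okR177 : OKR (177 * 1000) 1000 := by decide +kernel
theorem okR178 : OKR (178 * 1000) 1000 := by decide +kernel
theorem okR179 : OKR (179 * 1000) 1000 := by decide +kernel
theorem okR180 : OKR (180 * 1000) 1000 := by decide +kernel
theorem okR181 : OKR (181 * 1000) 1000 := by decide +kernel
theorem okR182 : OKR (182 * 1000) 1000 := by decide +kernel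
theorem okR183 : OKR (183 * 1000) 1000 := by decide +kernel

end Cfsg.Agent.Helper19.Fi24P
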