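import Cfsg.Agent.Helper19.Fi24P.Tab

set_option autoImplicit false
set_option linter.all false
set_option maxRecDepth 1000000
set_option maxHeartbeats 0

namespace Cfsg.Agent.Helper19.Fi24P

theorem okR200 : OKR (200 * 1000) 1000 := by decide +kernel
theorem okR201 : OKR (201 * 1000) 1000 := by decide +kernel
theorem okR202 : OKR (202 * 1000) 1000 := by decide +kernel
theorem okR203 : OKR (203 * 1000) 1000 := by decide +kernel
theorem okR204 : OKR (204 * 1000) 1000 := by decide +kernel
theorem okR205 : OKR (205 * 1000) 1000 := by decide +kernel
theorem okR206 : OKR (206 * 1000) 1000 := by decide +kernel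
theorem okR207 : OKR (207 * 1000) 1000 := by decide +kernel

end Cfsg.Agent.Helper19.Fi24P
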