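import Cfsg.Agent.Helper19.Fi24P.Tab

set_option autoImplicit false
set_option linter.all false
set_option maxRecDepth 1000000
set_option maxHeartbeats 0

namespace Cfsg.Agent.Helper19.Fi24P

theorem okR224 : OKR (224 * 1000) 1000 := by decide +kernel
theorem okR225 : OKR (225 * 1000) 1000 := by decide +kernel
theorem okR226 : OKR (226 * 1000) 1000 := by decide +kernel
theorem okR227 : OKR (227 * 1000) 1000 := by decide +kernel
theorem okR228 : OKR (228 * 1000) 1000 := by decide +kernel
theorem okR229 : OKR (229 * 1000) 1000 := by decide +kernel
theorem okR230 : OKR (230 * 1000) 1000 := by decide +kernel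
theorem okR231 : OKR (231 * 1000) 1000 := by decide +kernel

end Cfsg.Agent.Helper19.Fi24P
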