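import Cfsg.Agent.Helper19.Fi24P.Tab

set_option autoImplicit false
set_option linter.all false
set_option maxRecDepth 1000000
set_option maxHeartbeats 0

namespace Cfsg.Agent.Helper19.Fi24P

theorem okR240 : OKR (240 * 1000) 1000 := by decide +kernel
theorem okR241 : OKR (241 * 1000) 1000 := by decide +kernel
theorem okR242 : OKR (242 * 1000) 1000 := by decide +kernel
theorem okR243 : OKR (243 * 1000) 1000 := by decide +kernel
theorem okR244 : OKR (244 * 1000) 1000 := by decide +kernel
theorem okR245 : OKR (245 * 1000) 1000 := by decide +kernel
theorem okR246 : OKR (246 * 1000) 1000 := by decide +kernel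
theorem okR247 : OKR (247 * 1000) 1000 := by decide +kernel

end Cfsg.Agent.Helper19.Fi24P
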