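import Cfsg.Agent.Helper19.Fi24P.Tab

set_option autoImplicit false
set_option linter.all false
set_option maxRecDepth 1000000
set_option maxHeartbeats 0

namespace Cfsg.Agent.Helper19.Fi24P

theorem okR248 : OKR (248 * 1000) 1000 := by decide +kernel
theorem okR249 : OKR (249 * 1000) 1000 := by decide +kernel
theorem okR250 : OKR (250 * 1000) 1000 := by decide +kernel
theorem okR251 : OKR (251 * 1000) 1000 := by decide +kernel
theorem okR252 : OKR (252 * 1000) 1000 := by decide +kernel
theorem okR253 : OKR (253 * 1000) 1000 := by decide +kernel
theorem okR254 : OKR (254 * 1000) 1000 := by decide +kernel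
theorem okR255 : OKR (255 * 1000) 1000 := by decide +kernel

end Cfsg.Agent.Helper19.Fi24P
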