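import Cfsg.Agent.Helper19.Fi24P.Tab

set_option autoImplicit false
set_option linter.all false
set_option maxRecDepth 1000000
set_option maxHeartbeats 0

namespace Cfsg.Agent.Helper19.Fi24P

theorem okR304 : OKR (304 * 1000) 1000 := by decide +kernel
theorem okR305 : OKR (305 * 1000) 1000 := by decide +kernel
theorem okR306 : OKR (306 * 1000) 1000 := by decide +kernel

end Cfsg.Agent.Helper19.Fi24P
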