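import Cfsg.Agent.Helper19.Fi24P.Tab

set_option autoImplicit false
set_option linter.all false
set_option maxRecDepth 1000000
set_option maxHeartbeats 0

namespace Cfsg.Agent.Helper19.Fi24P

theorem okR40 : OKR (40 * 1000) 1000 := by decide +kernel
theorem okR41 : OKR (41 * 1000) 1000 := by decide +kernel
theorem okR42 : OKR (42 * 1000) 1000 := by decide +kernel
theorem okR43 : OKR (43 * 1000) 1000 := by decide +kernel
theorem okR44 : OKR (44 * 1000) 1000 := by decide +kernel
theorem okR45 : OKR (45 * 1000) 1000 := by decide +kernel
theorem okR46 : OKR (46 * 1000) 1000 := by decide +kernel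
theorem okR47 : OKR (47 * 1000) 1000 := by decide +kernel

end Cfsg.Agent.Helper19.Fi24P
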