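import Cfsg.Agent.Helper19.Fi24P.Tab

set_option autoImplicit false
set_option linter.all false
set_option maxRecDepth 1000000
set_option maxHeartbeats 0

namespace Cfsg.Agent.Helper19.Fi24P

theorem okT0 : OKT (0 * 20000) 20000 := by decide +kernel
theorem okT1 : OKT (1 * 20000) 20000 := by decide +kernel
theorem okT2 : OKT (2 * 20000) 20000 := by decide +kernel
theorem okT3 : OKT (3 * 20000) 20000 := by decide +kernel
theorem okT4 : OKT (4 * 20000) 20000 := by decide +kernel
theorem okT5 : OKT (5 * 20000) 20000 := by decide +kernel
theorem okT6 : OKT (6 * 20000) 20000 := by decide +kernel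
theorem okT7 : OKT (7 * 20000) 20000 := by decide +kernel
theorem okT8 : OKT (8 * 20000) 20000 := by decide +kernel
theorem okT9 : OKT (9 * 20000) 20000 := by decide +kernel
theorem okT10 : OKT (10 * 20000) 20000 := by decide +kernel
theorem okT11 : OKT (11 * 20000) 20000 := by decide +kernel
theorem okT12 : OKT (12 * 20000) 20000 := by decide +kernel
theorem okT13 : OKT (13 * 20000) 20000 := by decide +kernel
theorem okT14 : OKT (14 * 20000) 20000 := by decide +kernel
theorem okT15 : OKT (15 * 20000) 20000 := by decide +kernel

end Cfsg.Agent.Helper19.Fi24P
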