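import Mathlib
import Cfsg.Agent.Helper19.TCR.Static
import Cfsg.Agent.Helper19.TCR.Static2
import Cfsg.Agent.Helper19.Fi24P.Chk0
import Cfsg.Agent.Helper19.Fi24P.Chk1
import Cfsg.Agent.Helper19.Fi24P.Chk2
import Cfsg.Agent.Helper19.Fi24P.Chk3
import Cfsg.Agent.Helper19.Fi24P.Chk4
import Cfsg.Agent.Helper19.Fi24P.Chk5
import Cfsg.Agent.Helper19.Fi24P.Chk6
import Cfsg.Agent.Helper19.Fi24P.Chk7
import Cfsg.Agent.Helper19.Fi24P.Chk8
import Cfsg.Agent.Helper19.Fi24P.Chk9
import Cfsg.Agent.Helper19.Fi24P.Chk10
import Cfsg.Agent.Helper19.Fi24P.Chk11
import Cfsg.Agent.Helper19.Fi24P.Chk12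
import Cfsg.Agent.Helper19.Fi24P.Chk13
import Cfsg.Agent.Helper19.Fi24P.Chk14
import Cfsg.Agent.Helper19.Fi24P.Chk15
import Cfsg.Agent.Helper19.Fi24P.Chk16
import Cfsg.Agent.Helper19.Fi24P.Chk17
import Cfsg.Agent.Helper19.Fi24P.Chk18
import Cfsg.Agent.Helper19.Fi24P.Chk19
import Cfsg.Agent.Helper19.Fi24P.Chk20
import Cfsg.Agent.Helper19.Fi24P.Chk21
import Cfsg.Agent.Helper19.Fi24P.Chk22
import Cfsg.Agent.Helper19.Fi24P.Chk23
import Cfsg.Agent.Helper19.Fi24P.Chk24
import Cfsg.Agent.Helper19.Fi24P.Chk25
import Cfsg.Agent.Helper19.Fi24P.Chk26
import Cfsg.Agent.Helper19.Fi24P.Chk27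
import Cfsg.Agent.Helper19.Fi24P.Chk28
import Cfsg.Agent.Helper19.Fi24P.Chk29
import Cfsg.Agent.Helper19.Fi24P.Chk30
import Cfsg.Agent.Helper19.Fi24P.Chk31
import Cfsg.Agent.Helper19.Fi24P.Chk32
import Cfsg.Agent.Helper19.Fi24P.Chk33
import Cfsg.Agent.Helper19.Fi24P.Chk34
import Cfsg.Agent.Helper19.Fi24P.Chk35
import Cfsg.Agent.Helper19.Fi24P.Chk36
import Cfsg.Agent.Helper19.Fi24P.Chk37
import Cfsg.Agent.Helper19.Fi24P.Chk38
import Cfsg.Agent.Helper19.Fi24P.ChkT

set_option autoImplicit false
set_option linter.all false
set_option maxRecDepth 1000000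
set_option maxHeartbeats 0

namespace Cfsg.Agent.Helper19.Fi24P

open Cfsg.Agent.Helper19.TCS

theorem okR_all : ∀ p, p < 307 → OKR (p * 1000) 1000 := by
  intro p hp
  interval_cases p
  · exact okR0
  · exact okR1
  · exact okR2
  · exact okR3
  · exact okR4
  · exact okR5
  · exact okR6
  · exact okR7
  · exact okR8
  · exact okR9
  · exact okR10
  · exact okR11
  · exact okR12
  · exact okR13
  · exact okR14
  · exact okR15
  · exact okR16
  · exact okR17
  · exact okR18
  · exact okR19
  · exact okR20
  · exact okR21
  · exact okR22
  · exact okR23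
  · exact okR24
  · exact okR25
  · exact okR26
  · exact okR27
  · exact okR28
  · exact okR29
  · exact okR30
  · exact okR31
  · exact okR32
  · exact okR33
  · exact okR34
  · exact okR35
  · exact okR36
  · exact okR37
  · exact okR38
  · exact okR39
  · exact okR40
  · exact okR41
  · exact okR42
  · exact okR43
  · exact okR44
  · exact okR45
  · exact okR46
  · exact okR47
  · exact okR48
  · exact okR49
  · exact okR50
  · exact okR51
  · exact okR52
  · exact okR53
  · exact okR54
  · exact okR55
  · exact okR56
  · exact okR57
  · exact okR58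
  · exact okR59
  · exact okR60
  · exact okR61
  · exact okR62
  · exact okR63
  · exact okR64
  · exact okR65
  · exact okR66
  · exact okR67
  · exact okR68
  · exact okR69
  · exact okR70
  · exact okR71
  · exact okR72
  · exact okR73
  · exact okR74
  · exact okR75
  · exact okR76
  · exact okR77
  · exact okR78
  · exact okR79
  · exact okR80
  · exact okR81
  · exact okR82
  · exact okR83
  · exact okR84
  · exact okR85
  · exact okR86
  · exact okR87
  · exact okR88
  · exact okR89
  · exact okR90
  · exact okR91
  · exact okR92
  · exact okR93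
  · exact okR94
  · exact okR95
  · exact okR96
  · exact okR97
  · exact okR98
  · exact okR99
  · exact okR100
  · exact okR101
  · exact okR102
  · exact okR103
  · exact okR104
  · exact okR105
  · exact okR106
  · exact okR107
  · exact okR108
  · exact okR109
  · exact okR110
  · exact okR111
  · exact okR112
  · exact okR113
  · exact okR114
  · exact okR115
  · exact okR116
  · exact okR117
  · exact okR118
  · exact okR119
  · exact okR120
  · exact okR121
  · exact okR122
  · exact okR123
  · exact okR124
  · exact okR125
  · exact okR126
  · exact okR127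
  · exact okR128
  · exact okR129
  · exact okR130
  · exact okR131
  · exact okR132
  · exact okR133
  · exact okR134
  · exact okR135
  · exact okR136
  · exact okR137
  · exact okR138
  · exact okR139
  · exact okR140
  · exact okR141
  · exact okR142
  · exact okR143
  · exact okR144
  · exact okR145
  · exact okR146
  · exact okR147
  · exact okR148
  · exact okR149
  · exact okR150
  · exact okR151
  · exact okR152
  · exact okR153
  · exact okR154
  · exact okR155
  · exact okR156
  · exact okR157
  · exact okR158
  · exact okR159
  · exact okR160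
  · exact okR161
  · exact okR162
  · exact okR163
  · exact okR164
  · exact okR165
  · exact okR166
  · exact okR167
  · exact okR168
  · exact okR169
  · exact okR170
  · exact okR171
  · exact okR172
  · exact okR173
  · exact okR174
  · exact okR175
  · exact okR176
  · exact okR177
  · exact okR178
  · exact okR179
  · exact okR180
  · exact okR181
  · exact okR182
  · exact okR183
  · exact okR184
  · exact okR185
  · exact okR186
  · exact okR187
  · exact okR188
  · exact okR189
  · exact okR190
  · exact okR191
  · exact okR192
  · exact okR193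
  · exact okR194
  · exact okR195
  · exact okR196
  · exact okR197
  · exact okR198
  · exact okR199
  · exact okR200
  · exact okR201
  · exact okR202
  · exact okR203
  · exact okR204
  · exact okR205
  · exact okR206
  · exact okR207
  · exact okR208
  · exact okR209
  · exact okR210
  · exact okR211
  · exact okR212
  · exact okR213
  · exact okR214
  · exact okR215
  · exact okR216
  · exact okR217
  · exact okR218
  · exact okR219
  · exact okR220
  · exact okR221
  · exact okR222
  · exact okR223
  · exact okR224
  · exact okR225
  · exact okR226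
  · exact okR227
  · exact okR228
  · exact okR229
  · exact okR230
  · exact okR231
  · exact okR232
  · exact okR233
  · exact okR234
  · exact okR235
  · exact okR236
  · exact okR237
  · exact okR238
  · exact okR239
  · exact okR240
  · exact okR241
  · exact okR242
  · exact okR243
  · exact okR244
  · exact okR245
  · exact okR246
  · exact okR247
  · exact okR248
  · exact okR249
  · exact okR250
  · exact okR251
  · exact okR252
  · exact okR253
  · exact okR254
  · exact okR255
  · exact okR256
  · exact okR257
  · exact okR258
  · exact okR259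
  · exact okR260
  · exact okR261
  · exact okR262
  · exact okR263
  · exact okR264
  · exact okR265
  · exact okR266
  · exact okR267
  · exact okR268
  · exact okR269
  · exact okR270
  · exact okR271
  · exact okR272
  · exact okR273
  · exact okR274
  · exact okR275
  · exact okR276
  · exact okR277
  · exact okR278
  · exact okR279
  · exact okR280
  · exact okR281
  · exact okR282
  · exact okR283
  · exact okR284
  · exact okR285
  · exact okR286
  · exact okR287
  · exact okR288
  · exact okR289
  · exact okR290
  · exact okR291
  · exact okR292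
  · exact okR293
  · exact okR294
  · exact okR295
  · exact okR296
  · exact okR297
  · exact okR298
  · exact okR299
  · exact okR300
  · exact okR301
  · exact okR302
  · exact okR303
  · exact okR304
  · exact okR305
  · exact okR306

theorem okT_all : ∀ p, p < 16 → OKT (p * 20000) 20000 := by
  intro p hp
  interval_cases p
  · exact okT0
  · exact okT1
  · exact okT2
  · exact okT3
  · exact okT4
  · exact okT5
  · exact okT6
  · exact okT7
  · exact okT8
  · exact okT9
  · exact okT10
  · exact okT11
  · exact okT12
  · exact okT13
  · exact okT14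
  · exact okT15

theorem okAll : ∀ i l, i < 306936 → l < 12 → OKE i l := by
  intro i l hi hl
  have hp : i / 1000 < 307 := by omega
  have h1 : i / 1000 * 1000 ≤ i := Nat.div_mul_le_self i 1000
  have h2 : i < i / 1000 * 1000 + 1000 := by omega
  exact okRows_spec (i / 1000 * 1000) 1000 (okR_all (i / 1000) hp) i h1 h2 hi l hl

theorem treeAll : ∀ j, 0 < j → j < 306936 → parF j < j := by
  intro j h0 hj
  have hp : j / 20000 < 16 := by omega
  have h1 : j / 20000 * 20000 ≤ j := Nat.div_mul_le_self j 20000
  have h2 : j < j / 20000 * 20000 + 20000 := by omega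
  exact okTree_spec (j / 20000 * 20000) 20000 (okT_all (j / 20000) hp) j h1 h2 h0 hj

theorem rotsF_ok : (List.range 295).all (fun r => rotL.contains (rotsF r)) = true :=
  rots_contains_of_map_eq (by decide +kernel)

theorem rotL_ok : rotL.all (rotOK 12 rels) = true :=
  rotL_all_of_indexed rotL rotIdx (by decide +kernel) (by decide +kernel)

theorem subL_ok : subL.all (subOK 12 subs) = true := by decide +kernel

theorem subsF_ok : ∀ s, (subsF s).2.1 < 12 → subsF s ∈ subL := by
  intro s hs
  unfold subsF at hs ⊢
  by_cases h : s < subL.length
  · rw [List.getD_eq_getElem _ _ h]; exact List.getElem_mem h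
  · rw [List.getD_eq_default _ _ (not_lt.mp h)] at hs
    simp at hs

/-- the table is closed, for any group with generators `gc` satisfying the relators. -/
theorem closed {G : Type*} [Group G] (H : Subgroup G) (gc : ℕ → G)
    (hinv : ∀ l, l < 12 → gc (invF l) = (gc l)⁻¹)
    (hrels : ∀ w ∈ rels, prodw gc w = 1) (hsubs : ∀ w ∈ subs, prodw gc w ∈ H) :
    Sem 306936 12 invF 295 rotsF subsF H gc ∧ Closed 306936 12 524288 ent parF pletF H gc := by
  have S : Sem 306936 12 invF 295 rotsF subsF H gc :=
    sem_of_data rels subs rotL subL
      (fun l hl => hl) hinv rotsF_ok rotL_ok hrels subsF_ok subL_ok hsubs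
      (by norm_num)
  exact ⟨S, closed_of_ok S treeAll okAll⟩

end Cfsg.Agent.Helper19.Fi24P
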