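import Cfsg.Agent.Helper19.Fi24P.Tab

set_option autoImplicit false
set_option linter.all false
set_option maxRecDepth 1000000
set_option maxHeartbeats 0

namespace Cfsg.Agent.Helper19.Fi24P

theorem okR96 : OKR (96 * 1000) 1000 := by decide +kernel
theorem okR97 : OKR (97 * 1000) 1000 := by decide +kernel
theorem okR98 : OKR (98 * 1000) 1000 := by decide +kernel
theorem okR99 : OKR (99 * 1000) 1000 := by decide +kernel
theorem okR100 : OKR (100 * 1000) 1000 := by decide +kernel
theorem okR101 : OKR (101 * 1000) 1000 := by decide +kernel
theorem okR102 : OKR (102 * 1000) 1000 := by decide +kernel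
theorem okR103 : OKR (103 * 1000) 1000 := by decide +kernel

end Cfsg.Agent.Helper19.Fi24P
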